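import Cfsg.Agent.Lib.GolU.HSAut3
import Cfsg.Agent.Lib.M22Sub.Big2

/-!
The action of the group of order 44352000 on 100 points.
-/

set_option autoImplicit false

namespace Cfsg.Agent.Lib.HSOut

open Cfsg Finset
open Cfsg.Agent.Lib.GolU Cfsg.Agent.Lib.Steiner
open scoped Pointwise

theorem fix_mod_gen {X : Type*} [Finite X] {p : ℕ} [Fact p.Prime] {s : Equiv.Perm X} (hs : s ^ p = 1) (Y : Set X)
    (hY : ∀ y ∈ Y, s y ∈ Y) : {y | y ∈ Y ∧ s y = y}.ncard ≡ Y.ncard [MOD p] := by
  classical
  have : Fintype X := Fintype.ofFinite X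
  let f : Function.End Y := fun y => ⟨s y, hY y y.2⟩
  have hf : ∀ n (y : Y), ((f ^ n) y : X) = (s ^ n) y := by
    intro n
    induction n with
    | zero => intro y; rfl
    | succ n ih =>
      intro y
      rw [pow_succ, pow_succ]
      show ((f ^ n) (f y) : X) = (s ^ n) (s y)
      rw [ih]
  have h1 : f ^ p ^ 1 = 1 := by
    funext y
    apply Subtype.ext
    rw [pow_one, hf, hs]
    rfl
  have h2 := Equiv.Perm.card_fixedPoints_modEq h1
  have e1 : Fintype.card Y = Y.ncard := by rw [← Nat.card_eq_fintype_card]; rfl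
  have e2 : Fintype.card (Function.fixedPoints f) = {y | y ∈ Y ∧ s y = y}.ncard := by
    rw [← Nat.card_eq_fintype_card, ← Nat.card_coe_set_eq]
    refine Nat.card_congr ⟨fun y => ⟨y.1.1, y.1.2, congrArg Subtype.val y.2⟩, fun y => ⟨⟨y.1, y.2.1⟩, Subtype.ext y.2.2⟩,
      fun _ => rfl, fun _ => rfl⟩
  rw [e1, e2] at h2
  exact h2.symm

variable {α : Type*} [Fintype α] [DecidableEq α] {B : Set (Finset α)} [Fintype (Vt B)] [DecidableEq (Vt B)]

theorem card_stabN (hα : Fintype.card α = 22) (hB : IsSteinerSystem 3 6 B) :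
    Nat.card (MulAction.stabilizer (hsN B) (none : Vt B)) = 443520 := by
  obtain ⟨f, hf⟩ := exists_embed (t := 3) (by norm_num) (by norm_num) hα hB
  obtain ⟨hs, hc⟩ := m22sub_simple hf
  rw [← Nat.card_congr (stabN B).toEquiv, evK_eq hα hB hf, hc]

theorem trans_hsN (hα : Fintype.card α = 22) (hB : IsSteinerSystem 3 6 B) : MulAction.IsPretransitive (hsN B) (Vt B) := by
  have h2 := Nat.card_congr (MulAction.orbitProdStabilizerEquivGroup (hsN B) (none : Vt B))
  rw [Nat.card_prod, card_stabN hα hB, card_hsN hα hB] at h2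
  have h3 : (MulAction.orbit (hsN B) (none : Vt B)).ncard = 100 := by
    rw [← Nat.card_coe_set_eq]; omega
  have h4 : MulAction.orbit (hsN B) (none : Vt B) = Set.univ := by
    apply Set.eq_of_subset_of_ncard_le (Set.subset_univ _)
    · rw [h3, Set.ncard_univ, card_Vt hα hB]
  rw [MulAction.isPretransitive_iff_base (none : Vt B)]
  intro x
  have : x ∈ MulAction.orbit (hsN B) (none : Vt B) := by rw [h4]; exact Set.mem_univ _
  exact this

/-- the point stabiliser as a group of permutations of 24 points -/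
theorem exists_theta (hα : Fintype.card α = 22) (hB : IsSteinerSystem 3 6 B) : ∃ (p q : GolayPt) (F : α → GolayPt)
    (θ : MulAction.stabilizer (hsN B) (none : Vt B) →* Equiv.Perm GolayPt), p ≠ q ∧ Function.Injective θ ∧
    (∀ g, θ g ∈ M24) ∧ (∀ g, θ g p = p) ∧ (∀ g, θ g q = q) ∧ (∀ a, F a ≠ p ∧ F a ≠ q) ∧
    ∀ g : MulAction.stabilizer (hsN B) (none : Vt B), ∀ a, (g : hsN B).1 (some (Sum.inl a)) = some (Sum.inl a) → θ g (F a) = F a := by
  obtain ⟨f, hf⟩ := exists_embed (t := 3) (by norm_num) (by norm_num) hα hB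
  have hev := evK_eq hα hB hf
  refine ⟨f (Sum.inr 0), f (Sum.inr 1), fun a => f (Sum.inl a),
    (Psi f).comp ((setSystemAut B).subtype.comp ((evK B).subtype.comp (stabN B).symm.toMonoidHom)), ?_, ?_, ?_, ?_, ?_, ?_, ?_⟩
  · intro h
    have := f.injective h
    simp at this
  · intro g h hgh
    have h1 := Psi_inj f hgh
    exact (stabN B).symm.injective (Subtype.ext (Subtype.ext h1))
  · intro g
    have h1 : ((stabN B).symm g : setSystemAut B) ∈ m22sub B f := by
      rw [← hev]; exact ((stabN B).symm g).2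
    exact mem_m22sub.1 h1
  · intro g; exact Psi_inr f _ 0
  · intro g; exact Psi_inr f _ 1
  · intro a
    constructor
    · intro h; have := f.injective h; simp at this
    · intro h; have := f.injective h; simp at this
  · intro g a h
    have h1 : hsP ((stabN B).symm g).1 = (g : hsN B).1 := by
      have h2 := (stabN B).apply_symm_apply g
      exact congrArg (fun x : MulAction.stabilizer (hsN B) (none : Vt B) => ((x : hsN B) : Equiv.Perm (Vt B))) h2
    rw [← h1, hsP_pt] at h
    have h3 : ((stabN B).symm g).1.1 a = a := by simpa using h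
    show Psi f ((stabN B).symm g).1.1 (f (Sum.inl a)) = f (Sum.inl a)
    rw [Psi_inl, h3]

theorem uniq_fix (hα : Fintype.card α = 22) (hB : IsSteinerSystem 3 6 B) {s : Equiv.Perm (Vt B)} (hs : s ∈ hsN B)
    (h11 : s ^ 11 = 1) (h1 : s ≠ 1) {y z : Vt B} (hy : s y = y) (hz : s z = z) : y = z := by
  have : Fact (Nat.Prime 11) := ⟨by norm_num⟩
  obtain ⟨⟨g, hgm⟩, hg⟩ := (trans_hsN hα hB).exists_smul_eq y (none : Vt B)
  have hg' : g y = none := hg
  have hs' : g * s * g⁻¹ ∈ hsN B := (hsN B).mul_mem ((hsN B).mul_mem hgm hs) ((hsN B).inv_mem hgm)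
  have s0 : (g * s * g⁻¹) none = none := by
    rw [← hg']; simp [Equiv.Perm.mul_apply, hy]
  have s11 : (g * s * g⁻¹) ^ 11 = 1 := by rw [conj_pow, h11]; simp
  have s1 : g * s * g⁻¹ ≠ 1 := by
    intro h; apply h1
    have := congrArg (fun x => g⁻¹ * x * g) h
    simpa [mul_assoc] using this
  have sz : (g * s * g⁻¹) (g z) = g z := by simp [Equiv.Perm.mul_apply, hz]
  generalize hs'' : g * s * g⁻¹ = s' at *
  obtain ⟨p, q, F, θ, hpq, hinj, hM, hθp, hθq, hF, hfix⟩ := exists_theta hα hB
  set t : MulAction.stabilizer (hsN B) (none : Vt B) := ⟨⟨s', hs'⟩, s0⟩ with ht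
  have t11 : t ^ 11 = 1 := by apply Subtype.ext; apply Subtype.ext; exact s11
  have t1 : t ≠ 1 := by
    intro h; apply s1
    exact congrArg (fun x => ((x : MulAction.stabilizer (hsN B) (none : Vt B)) : hsN B).1) h
  have hno : ∀ a, s' (some (Sum.inl a)) ≠ some (Sum.inl a) := by
    intro a ha
    have e1 := hfix t a ha
    have h3 := M22Sub.fix11 (hM t) (by rw [← map_pow, t11, map_one]) (by
      intro h; apply t1; apply hinj; rw [h, map_one])
    have h4 : ({p, q, F a} : Finset GolayPt).card = 3 := by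
      rw [Finset.card_insert_of_notMem, Finset.card_pair (hF a).2.symm]
      rw [Finset.mem_insert, Finset.mem_singleton, not_or]
      exact ⟨hpq, (hF a).1.symm⟩
    have h5 : ({p, q, F a} : Finset GolayPt) ⊆ Finset.univ.filter (fun x => θ t x = x) := by
      intro x hx
      rw [Finset.mem_insert, Finset.mem_insert, Finset.mem_singleton] at hx
      rw [Finset.mem_filter]
      rcases hx with rfl | rfl | rfl
      · exact ⟨mem_univ _, hθp t⟩
      · exact ⟨mem_univ _, hθq t⟩
      · exact ⟨mem_univ _, e1⟩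
    have := Finset.card_le_card h5
    omega
  have hgz : g z = none := by
    rcases hgz : g z with _ | a | b
    · rfl
    · rw [hgz] at sz; exact absurd sz (hno a)
    · exfalso
      rw [hgz] at sz
      obtain ⟨h, hh⟩ := exists_hsP hs'.1 s0
      have hb : h.1 • (b : Finset α) = b := by
        rw [← hh, hsP_bl] at sz
        have h2 := Sum.inr.inj (Option.some.inj sz)
        exact congrArg Subtype.val h2
      have hc := hB.1 b b.2
      have h11' : h.1 ^ 11 = 1 := by
        have : h ^ 11 = 1 := by apply hsP_inj; rw [map_pow, hh, s11, map_one]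
        exact congrArg Subtype.val this
      have h6 := fix_mod_gen h11' ((b : Finset α) : Set α) (by
        intro x hx
        have : h.1 x ∈ h.1 • (b : Finset α) := by
          rw [mem_smul_perm]; exact hx
        rw [hb] at this; exact this)
      rw [Set.ncard_coe_finset, hc] at h6
      have h7 : {y | y ∈ ((b : Finset α) : Set α) ∧ h.1 y = y}.Nonempty := by
        rw [Set.nonempty_iff_ne_empty]
        intro he
        rw [he, Set.ncard_empty] at h6
        revert h6; decide
      obtain ⟨a, -, ha⟩ := h7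
      apply hno a
      rw [← hh, hsP_pt, ha]
  apply g.injective
  rw [hg', hgz]

end Cfsg.Agent.Lib.HSOut
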