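import Cfsg.Agent.Lib.HSOut.Orb
import Cfsg.Agent.Lib.OutCrit

/-!
Automorphisms of the group of order 44352000.
-/

set_option autoImplicit false

namespace Cfsg.Agent.Lib.HSOut

open Cfsg Finset
open Cfsg.Agent.Lib.GolU Cfsg.Agent.Lib.Steiner
open scoped Pointwise

variable {α : Type*} [Fintype α] [DecidableEq α] {B : Set (Finset α)} [Fintype (Vt B)] [DecidableEq (Vt B)]

theorem card_stab_any (hα : Fintype.card α = 22) (hB : IsSteinerSystem 3 6 B) (y : Vt B) :
    Nat.card (MulAction.stabilizer (hsN B) y) = 443520 := by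
  have htr := trans_hsN hα hB
  have h2 := Nat.card_congr (MulAction.orbitProdStabilizerEquivGroup (hsN B) y)
  rw [Nat.card_prod, card_hsN hα hB, MulAction.orbit_eq_univ, Nat.card_coe_set_eq, Set.ncard_univ, card_Vt hα hB] at h2
  omega

theorem exists_eleven (hα : Fintype.card α = 22) (hB : IsSteinerSystem 3 6 B) (y : Vt B) :
    ∃ s ∈ hsN B, s ^ 11 = 1 ∧ s ≠ 1 ∧ s y = y := by
  have : Fact (Nat.Prime 11) := ⟨by norm_num⟩
  obtain ⟨s, hs⟩ := exists_prime_orderOf_dvd_card' (G := MulAction.stabilizer (hsN B) y) 11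
    (by rw [card_stab_any hα hB]; norm_num)
  refine ⟨(s : hsN B).1, (s : hsN B).2, ?_, ?_, s.2⟩
  · have h1 : s ^ 11 = 1 := by rw [← hs]; exact pow_orderOf_eq_one s
    exact congrArg (fun x : MulAction.stabilizer (hsN B) y => ((x : hsN B) : Equiv.Perm (Vt B))) h1
  · intro h
    have h1 : s = 1 := Subtype.ext (Subtype.ext h)
    rw [h1, orderOf_one] at hs
    norm_num at hs

/-- an automorphism maps the point stabiliser to a point stabiliser -/
theorem alpha_stab (hα : Fintype.card α = 22) (hB : IsSteinerSystem 3 6 B) (β : MulAut (hsN B)) :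
    ∃ y : Vt B, ∀ g : hsN B, (β g) • y = y ↔ g • (none : Vt B) = none := by
  have : Fact (Nat.Prime 11) := ⟨by norm_num⟩
  set S := MulAction.stabilizer (hsN B) (none : Vt B) with hS
  have hβi : Function.Injective (β : hsN B →* hsN B) := β.injective
  set K := S.map (β : hsN B →* hsN B) with hK
  have hcK : Nat.card K = 443520 := by
    rw [hK, Subgroup.card_map_of_injective hβi]; exact card_stabN hα hB
  obtain ⟨s, hs⟩ := exists_prime_orderOf_dvd_card' (G := K) 11 (by rw [hcK]; norm_num)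
  have s11 : ((s : hsN B) : Equiv.Perm (Vt B)) ^ 11 = 1 := by
    have h1 : s ^ 11 = 1 := by rw [← hs]; exact pow_orderOf_eq_one s
    exact congrArg (fun x : K => ((x : hsN B) : Equiv.Perm (Vt B))) h1
  have s1 : ((s : hsN B) : Equiv.Perm (Vt B)) ≠ 1 := by
    intro h
    have h1 : s = 1 := Subtype.ext (Subtype.ext h)
    rw [h1, orderOf_one] at hs
    norm_num at hs
  have hy : ∃ y : Vt B, ((s : hsN B) : Equiv.Perm (Vt B)) y = y := by
    have h1 := fix_mod_gen s11 Set.univ (fun _ _ => Set.mem_univ _)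
    rw [Set.ncard_univ, card_Vt hα hB] at h1
    by_contra hne
    push Not at hne
    have h2 : {y | y ∈ (Set.univ : Set (Vt B)) ∧ ((s : hsN B) : Equiv.Perm (Vt B)) y = y} = ∅ := by
      rw [Set.eq_empty_iff_forall_notMem]
      rintro y ⟨-, h⟩
      exact hne y h
    rw [h2, Set.ncard_empty] at h1
    revert h1; decide
  obtain ⟨y, hy⟩ := hy
  refine ⟨y, ?_⟩
  set O := MulAction.orbit K y with hO
  have hyO : y ∈ O := MulAction.mem_orbit_self y
  have hmod : O.ncard % 11 = 1 := by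
    have h1 := fix_mod_gen s11 O (by
      intro z hz
      exact (MulAction.mem_orbit_of_mem_orbit s hz : s • z ∈ O))
    have h2 : {z | z ∈ O ∧ ((s : hsN B) : Equiv.Perm (Vt B)) z = z} = {y} := by
      ext z
      constructor
      · rintro ⟨-, hz⟩
        exact uniq_fix hα hB (s : hsN B).2 s11 s1 hz hy
      · intro hz
        rw [Set.mem_singleton_iff] at hz; subst hz
        exact ⟨hyO, hy⟩
    rw [h2, Set.ncard_singleton] at h1
    have h3 : 1 % 11 = O.ncard % 11 := h1
    omega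
  have hle : O.ncard ≤ 100 := by
    rw [← card_Vt hα hB, ← Set.ncard_univ]
    exact Set.ncard_le_ncard (Set.subset_univ _)
  have hmul := Nat.card_congr (MulAction.orbitProdStabilizerEquivGroup K y)
  rw [Nat.card_prod, hcK, Nat.card_coe_set_eq] at hmul
  change O.ncard * _ = _ at hmul
  obtain ⟨p, q, F, θ, hpq, hinj, hM, hθp, hθq, hF, hfix⟩ := exists_theta hα hB
  set e : K ≃* S := (S.equivMapOfInjective (β : hsN B →* hsN B) hβi).symm with he
  set H : Subgroup (Equiv.Perm GolayPt) := (MulAction.stabilizer K y).map (θ.comp (e : K →* S)) with hH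
  have hcH : Nat.card H = Nat.card (MulAction.stabilizer K y) := by
    rw [hH]
    apply Subgroup.card_map_of_injective
    intro a b hab
    exact e.injective (hinj hab)
  have hTwo : M22Sub.Two H p q := by
    refine ⟨?_, hpq, ?_, ?_⟩
    · rintro _ ⟨k, _, rfl⟩; exact hM _
    · rintro _ ⟨k, _, rfl⟩; exact hθp _
    · rintro _ ⟨k, _, rfl⟩; exact hθq _
  have n1 := M22Sub.not_36960 hTwo
  have n2 := M22Sub.not_9856 hTwo
  have n3 := M22Sub.not_7920 hTwo
  rw [hcH] at n1 n2 n3
  have hO1 : O.ncard = 1 := by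
    generalize hn : O.ncard = n at *
    generalize hm : Nat.card (MulAction.stabilizer K y) = m at *
    have hn' : n = 1 ∨ n = 12 ∨ n = 23 ∨ n = 34 ∨ n = 45 ∨ n = 56 ∨ n = 67 ∨ n = 78 ∨ n = 89 ∨ n = 100 := by omega
    rcases hn' with rfl | rfl | rfl | rfl | rfl | rfl | rfl | rfl | rfl | rfl
    · rfl
    all_goals exfalso; omega
  have hKle : K ≤ MulAction.stabilizer (hsN B) y := by
    intro k hk
    obtain ⟨z, hz⟩ := Set.ncard_eq_one.1 hO1
    have h1 : (⟨k, hk⟩ : K) • y ∈ O := MulAction.mem_orbit y _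
    rw [hz, Set.mem_singleton_iff] at h1 hyO
    show k • y = y
    rw [hyO]; rw [hyO] at h1; exact h1
  have hKeq : K = MulAction.stabilizer (hsN B) y := by
    apply Subgroup.eq_of_le_of_card_ge hKle
    rw [hcK, card_stab_any hα hB]
  intro g
  constructor
  · intro h
    have h1 : β g ∈ K := by rw [hKeq]; exact h
    obtain ⟨g', hg', h2⟩ := h1
    have : g' = g := hβi h2
    rw [← this]; exact hg'
  · intro h
    have h1 : β g ∈ K := ⟨g, h, rfl⟩
    rw [hKeq] at h1; exact h1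

/-- every automorphism is induced by an automorphism of the graph -/
theorem exists_pi (hα : Fintype.card α = 22) (hB : IsSteinerSystem 3 6 B) (β : MulAut (hsN B)) :
    ∃ π ∈ hsG B, ∀ g : hsN B, π * g.1 = (β g).1 * π := by
  obtain ⟨y, hy⟩ := alpha_stab hα hB β
  have htr := trans_hsN hα hB
  have hch : ∀ x : Vt B, ∃ g : hsN B, g • (none : Vt B) = x := fun x => htr.exists_smul_eq none x
  choose c hc using hch
  set P : Vt B → Vt B := fun x => β (c x) • y with hP
  have hwd : ∀ (g : hsN B) (x : Vt B), g • (none : Vt B) = x → β g • y = P x := by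
    intro g x hgx
    have h1 : β (g⁻¹ * c x) • y = y := by
      rw [hy, mul_smul, hc, ← hgx, inv_smul_smul]
    rw [map_mul, map_inv, mul_smul, inv_smul_eq_iff] at h1
    exact h1.symm
  have heq : ∀ (g : hsN B) (x : Vt B), P (g • x) = β g • P x := by
    intro g x
    rw [← hwd (g * c x) (g • x) (by rw [mul_smul, hc]), map_mul, mul_smul]
  have hinj : Function.Injective P := by
    intro x x' h
    have h1 : β ((c x')⁻¹ * c x) • y = y := by
      rw [map_mul, map_inv, mul_smul, inv_smul_eq_iff]; exact h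
    rw [hy, mul_smul, hc, inv_smul_eq_iff, hc] at h1
    exact h1
  set π : Equiv.Perm (Vt B) := Equiv.ofBijective P (Finite.injective_iff_bijective.1 hinj) with hπ
  have hπa : ∀ x, π x = P x := fun x => rfl
  have hcomm : ∀ g : hsN B, π * g.1 = (β g).1 * π := by
    intro g
    ext1 x
    exact heq g x
  refine ⟨π, ?_, hcomm⟩
  intro x w
  rw [sub_adj hα hB, sub_adj hα hB]
  have : sub B (π x) (π w) = π '' sub B x w := by
    ext z
    constructor
    · rintro ⟨g', hg', h1, rfl⟩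
      obtain ⟨g, hg⟩ := β.surjective ⟨g', hg'⟩
      have e1 : ∀ u, g' (π u) = π (g.1 u) := by
        intro u
        have h2 := congrArg (fun σ : Equiv.Perm (Vt B) => σ u) (hcomm g)
        have h3 : (β g).1 = g' := by rw [hg]
        rw [h3] at h2
        exact h2.symm
      rw [e1] at h1 ⊢
      exact ⟨g.1 w, ⟨g.1, g.2, π.injective h1, rfl⟩, rfl⟩
    · rintro ⟨_, ⟨g, hg, h1, rfl⟩, rfl⟩
      have e1 : ∀ u, (β ⟨g, hg⟩).1 (π u) = π (g u) := by
        intro u
        exact (congrArg (fun σ : Equiv.Perm (Vt B) => σ u) (hcomm ⟨g, hg⟩)).symm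
      refine ⟨(β ⟨g, hg⟩).1, (β ⟨g, hg⟩).2, ?_, ?_⟩
      · rw [e1, h1]
      · rw [e1]
  rw [this, Set.ncard_image_of_injective _ π.injective]

theorem cent_triv (hα : Fintype.card α = 22) (hB : IsSteinerSystem 3 6 B) {σ : Equiv.Perm (Vt B)}
    (h : ∀ g ∈ hsN B, σ * g = g * σ) : σ = 1 := by
  ext1 x
  obtain ⟨s, hs, s11, s1, hsx⟩ := exists_eleven hα hB x
  have h1 : s (σ x) = σ x := by
    have := congrArg (fun τ : Equiv.Perm (Vt B) => τ x) (h s hs)
    simp only [Equiv.Perm.mul_apply, hsx] at this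
    exact this.symm
  exact uniq_fix hα hB hs s11 s1 h1 hsx

/-- conjugation -/
def conjA {τ : Equiv.Perm (Vt B)} (hτ : ∀ g, g ∈ hsN B ↔ τ * g * τ⁻¹ ∈ hsN B) : MulAut (hsN B) where
  toFun g := ⟨τ * g.1 * τ⁻¹, (hτ _).1 g.2⟩
  invFun g := ⟨τ⁻¹ * g.1 * τ, (hτ _).2 (by have := g.2; simpa [mul_assoc] using this)⟩
  left_inv g := by apply Subtype.ext; simp [mul_assoc]
  right_inv g := by apply Subtype.ext; simp [mul_assoc]
  map_mul' g h := by apply Subtype.ext; simp [mul_assoc]

theorem card_out (hα : Fintype.card α = 22) (hB : IsSteinerSystem 3 6 B) : Nat.card (Out (hsN B)) = 2 := by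
  obtain ⟨f, hf⟩ := exists_embed (t := 3) (by norm_num) (by norm_num) hα hB
  obtain ⟨g0, hg0⟩ := exists_odd hα hB hf
  set τ := hsP g0 with hτ
  have hτG : τ ∈ hsG B := hsP_mem g0
  have hmem : ∀ g : Equiv.Perm (Vt B), g ∈ hsN B ↔ g ∈ hsG B ∧ Equiv.Perm.sign g = 1 := fun g => Iff.rfl
  have hτn : ∀ g, g ∈ hsN B ↔ τ * g * τ⁻¹ ∈ hsN B := by
    intro g
    rw [hmem, hmem]
    have e1 : Equiv.Perm.sign (τ * g * τ⁻¹) = Equiv.Perm.sign g := by
      rw [map_mul, map_mul, map_inv, mul_right_comm, mul_inv_cancel, one_mul]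
    rw [e1]
    refine and_congr_left (fun _ => ⟨fun h => (hsG B).mul_mem ((hsG B).mul_mem hτG h) ((hsG B).inv_mem hτG), fun h => ?_⟩)
    have := (hsG B).mul_mem ((hsG B).mul_mem ((hsG B).inv_mem hτG) h) hτG
    simpa [mul_assoc] using this
  apply OutCrit.card_out_two (conjA hτn)
  · rintro ⟨c, hc⟩
    have h1 : c.1 * τ = 1 := by
      apply cent_triv hα hB
      intro g hg
      have h2 := congrArg Subtype.val (hc ⟨g, hg⟩)
      have h3 : c.1 * (τ * g * τ⁻¹) * c.1⁻¹ = g := h2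
      rw [mul_inv_eq_iff_eq_mul] at h3
      calc c.1 * τ * g = c.1 * (τ * g * τ⁻¹) * τ := by group
        _ = g * (c.1 * τ) := by rw [h3, mul_assoc]
    have h2 : τ ∈ hsN B := by
      have : τ = c.1⁻¹ := (inv_eq_of_mul_eq_one_right h1).symm
      rw [this]; exact (hsN B).inv_mem c.2
    have h3 := ((hmem _).1 h2).2
    rw [hg0] at h3
    exact absurd h3 (by decide)
  · intro β
    obtain ⟨π, hπG, hπ⟩ := exists_pi hα hB β
    rcases Int.units_eq_one_or (Equiv.Perm.sign π) with h | h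
    · have hm : π⁻¹ ∈ hsN B := (hsN B).inv_mem ((hmem _).2 ⟨hπG, h⟩)
      refine ⟨⟨π⁻¹, hm⟩, Or.inl (fun x => ?_)⟩
      apply Subtype.ext
      show π⁻¹ * (β x).1 * π⁻¹⁻¹ = x.1
      rw [inv_inv, mul_assoc, ← hπ, inv_mul_cancel_left]
    · have hm : τ * π⁻¹ ∈ hsN B := by
        rw [hmem]
        refine ⟨(hsG B).mul_mem hτG ((hsG B).inv_mem hπG), ?_⟩
        rw [map_mul, map_inv, h, hg0]; decide
      refine ⟨⟨τ * π⁻¹, hm⟩, Or.inr (fun x => ?_)⟩
      apply Subtype.ext
      show τ * π⁻¹ * (β x).1 * (τ * π⁻¹)⁻¹ = τ * x.1 * τ⁻¹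
      have := hπ x
      rw [mul_inv_rev, inv_inv]
      calc τ * π⁻¹ * (β x).1 * (π * τ⁻¹) = τ * π⁻¹ * ((β x).1 * π) * τ⁻¹ := by group
        _ = τ * x.1 * τ⁻¹ := by rw [← this]; group

theorem card_out_congr {G H : Type*} [Group G] [Group H] (e : G ≃* H) : Nat.card (Out G) = Nat.card (Out H) := by
  have h : (Inn G).map ((MulAut.congr e : MulAut G ≃* MulAut H) : MulAut G →* MulAut H) = Inn H := by
    ext φ
    constructor
    · rintro ⟨_, ⟨g, rfl⟩, rfl⟩
      refine ⟨e g, ?_⟩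
      ext x
      simp
    · rintro ⟨k, rfl⟩
      refine ⟨MulAut.conj (e.symm k), ⟨e.symm k, rfl⟩, ?_⟩
      ext x
      simp
  exact Nat.card_congr (QuotientGroup.congr (Inn G) (Inn H) (MulAut.congr e) h).toEquiv

end Cfsg.Agent.Lib.HSOut
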