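import Cfsg.Agent.Lib.HSOut.Std

/-!
The group of order 44352000 is the group of even automorphisms of the graph.
-/

set_option autoImplicit false

namespace Cfsg.Agent.Lib.HSOut

open Cfsg Finset
open Cfsg.Agent.Lib.Golay Cfsg.Agent.Lib.GolU

theorem card_G0 : Nat.card G0 = 44352000 :=
  card_hs ⟨r5 pb, r5_mem pb⟩ ⟨v0, v0_mem⟩ (norm_r5 pb) norm_v0 (by decide +kernel)

theorem exists_hsN : ∃ (α : Type) (_ : Fintype α) (_ : DecidableEq α) (B : Set (Finset α)) (_ : Fintype (Vt B))
    (_ : DecidableEq (Vt B)), Fintype.card α = 22 ∧ IsSteinerSystem 3 6 B ∧ Nonempty (Spor.HS ≃* hsN B) := by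
  classical
  have : Fintype X100 := Fintype.ofFinite _
  have hg : HSg (nbf gr) := hsg_of srg_gr
  obtain ⟨φ, hφ⟩ := exists_iso hg xx
  have hst : IsSteinerSystem 3 6 (hB (nbf gr) xx) := hg.steiner xx
  have h22 : Fintype.card {a // a ∈ nbf gr xx} = 22 := by
    rw [Fintype.card_coe]; exact hg.deg xx
  have : Fintype (Vt (hB (nbf gr) xx)) := Fintype.ofFinite _
  refine ⟨{a // a ∈ nbf gr xx}, inferInstance, inferInstance, hB (nbf gr) xx, inferInstance, inferInstance, h22, hst, ?_⟩
  obtain ⟨e0⟩ := hs_std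
  have hsim : IsSimpleGroup G0 := isSimple_hs_std
  set ρ : G0 →* Equiv.Perm (Vt (hB (nbf gr) xx)) :=
    (φ.toEquiv.symm.permCongrHom.toMonoidHom).comp (MulAction.toPermHom G0 X100) with hρ
  have hρa : ∀ (g : G0) (u : Vt (hB (nbf gr) xx)), ρ g u = φ.symm (g • φ u) := fun g u => rfl
  have hG : ∀ g, ρ g ∈ hsG (hB (nbf gr) xx) := by
    intro g u w
    rw [hρa, hρa, φ.symm.map_adj_iff, gr_smul, φ.map_adj_iff]
  have hinj : Function.Injective ρ := by
    rw [← MonoidHom.ker_eq_bot_iff]
    rcases hsim.eq_bot_or_eq_top_of_normal ρ.ker inferInstance with h | h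
    · exact h
    · exfalso
      have hall : ∀ g : G0, ∀ y : X100, g • y = y := by
        intro g y
        have h1 : g ∈ ρ.ker := by rw [h]; exact Subgroup.mem_top _
        have h2 := congrArg (fun σ : Equiv.Perm (Vt (hB (nbf gr) xx)) => φ (σ (φ.symm y))) ((MonoidHom.mem_ker).1 h1)
        simpa [hρa] using h2
      have hy : ∀ y, y = xx := by
        intro y
        obtain ⟨g, hg⟩ := exists_base y
        rw [← hg, hall]
      have h1 := card_X100
      have : Subsingleton X100 := ⟨fun a b => by rw [hy a, hy b]⟩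
      rw [Nat.card_of_subsingleton xx] at h1
      norm_num at h1
  have hev : ∀ g, ρ g ∈ (Equiv.Perm.sign (α := Vt (hB (nbf gr) xx))).ker := by
    set ψ : G0 →* ℤˣ := (Equiv.Perm.sign (α := Vt (hB (nbf gr) xx))).comp ρ with hψ
    rcases hsim.eq_bot_or_eq_top_of_normal ψ.ker inferInstance with h | h
    · exfalso
      have hinj := (MonoidHom.ker_eq_bot_iff ψ).1 h
      have h1 := Nat.card_le_card_of_injective ψ hinj
      rw [card_G0, Nat.card_eq_fintype_card] at h1
      have : Fintype.card ℤˣ = 2 := rfl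
      omega
    · intro g
      have : g ∈ ψ.ker := by rw [h]; exact Subgroup.mem_top _
      exact this
  have hle : ρ.range ≤ hsN (hB (nbf gr) xx) := by
    rintro _ ⟨g, rfl⟩
    exact ⟨hG g, hev g⟩
  have heq : ρ.range = hsN (hB (nbf gr) xx) := by
    apply Subgroup.eq_of_le_of_card_ge hle
    rw [card_hsN h22 hst, ← Nat.card_congr (MonoidHom.ofInjective hinj).toEquiv, card_G0]
  exact ⟨e0.trans ((MonoidHom.ofInjective hinj).trans (MulEquiv.subgroupCongr heq))⟩

end Cfsg.Agent.Lib.HSOut
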