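import Cfsg.Agent.Lib.HSOut.Act

/-!
Suborbits.
-/

set_option autoImplicit false

namespace Cfsg.Agent.Lib.HSOut

open Cfsg Finset
open Cfsg.Agent.Lib.GolU Cfsg.Agent.Lib.Steiner
open scoped Pointwise

variable {α : Type*} [Fintype α] [DecidableEq α] {B : Set (Finset α)} [Fintype (Vt B)] [DecidableEq (Vt B)]

/-- suborbits -/
def sub (B : Set (Finset α)) [Fintype (Vt B)] [DecidableEq (Vt B)] (x w : Vt B) : Set (Vt B) :=
  {z | ∃ g ∈ hsN B, g x = x ∧ g w = z}

theorem trans_pt (hα : Fintype.card α = 22) (hB : IsSteinerSystem 3 6 B) (a a' : α) :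
    ∃ g ∈ hsN B, g none = none ∧ g (some (Sum.inl a)) = some (Sum.inl a') := by
  obtain ⟨f, hf⟩ := exists_embed (t := 3) (by norm_num) (by norm_num) hα hB
  have hx : ∀ a : α, ∃ x : Fin 3 ↪ α, x 0 = a := by
    intro a
    have h1 : 2 ≤ ((Finset.univ : Finset α).erase a).card := by
      rw [Finset.card_erase_of_mem (mem_univ _), Finset.card_univ, hα]; norm_num
    obtain ⟨s, hs1, hs2⟩ := Finset.exists_subset_card_eq h1
    obtain ⟨b, c, hbc, rfl⟩ := Finset.card_eq_two.1 hs2
    have hb : b ≠ a := (mem_erase.1 (hs1 (by simp))).1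
    have hc : c ≠ a := (mem_erase.1 (hs1 (by simp))).1
    refine ⟨⟨![a, b, c], ?_⟩, rfl⟩
    intro i j hij
    fin_cases i <;> fin_cases j <;> simp_all
  obtain ⟨x, hx0⟩ := hx a
  obtain ⟨y, hy0⟩ := hx a'
  obtain ⟨g, hg, hgx⟩ := trans_seq3 hf x y
  have hk : (⟨g, aut_of_Psi hf hg⟩ : setSystemAut B) ∈ evK B := by
    rw [evK_eq hα hB hf]; exact hg
  refine ⟨hsP ⟨g, aut_of_Psi hf hg⟩, ⟨hsP_mem _, hk⟩, hsP_none _, ?_⟩
  rw [hsP_pt, ← hx0, hgx, hy0]

theorem trans_bl (hα : Fintype.card α = 22) (hB : IsSteinerSystem 3 6 B) (b b' : B) :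
    ∃ g ∈ hsN B, g none = none ∧ g (some (Sum.inr b)) = some (Sum.inr b') := by
  obtain ⟨f, hf⟩ := exists_embed (t := 3) (by norm_num) (by norm_num) hα hB
  have hx : ∀ b : B, ∃ x : Fin 3 ↪ α, ∀ i, x i ∈ (b : Finset α) := by
    intro b
    have h1 : 3 ≤ (b : Finset α).card := by rw [hB.1 b b.2]; norm_num
    obtain ⟨s, hs1, hs2⟩ := Finset.exists_subset_card_eq h1
    refine ⟨(Finset.equivFinOfCardEq hs2).symm.toEmbedding.trans (Function.Embedding.subtype _), fun i => ?_⟩
    exact hs1 ((Finset.equivFinOfCardEq hs2).symm i).2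
  obtain ⟨x, hxb⟩ := hx b
  obtain ⟨y, hyb⟩ := hx b'
  obtain ⟨g, hg, hgx⟩ := trans_seq3 hf x y
  have hk : (⟨g, aut_of_Psi hf hg⟩ : setSystemAut B) ∈ evK B := by
    rw [evK_eq hα hB hf]; exact hg
  refine ⟨hsP ⟨g, aut_of_Psi hf hg⟩, ⟨hsP_mem _, hk⟩, hsP_none _, ?_⟩
  rw [hsP_bl]
  congr 2
  apply Subtype.ext
  show g • (b : Finset α) = b'
  have hs3 : (Finset.univ.map y).card = 3 := by rw [Finset.card_map]; rfl
  obtain ⟨c, hc, huniq⟩ := hB.2 (Finset.univ.map y) hs3
  have e1 := huniq (g • (b : Finset α)) ⟨mem_aut.1 (aut_of_Psi hf hg) _ b.2, by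
    intro z hz
    rw [mem_map] at hz
    obtain ⟨i, _, rfl⟩ := hz
    rw [← hgx, mem_smul_perm]; exact hxb i⟩
  have e2 := huniq (b' : Finset α) ⟨b'.2, by
    intro z hz
    rw [mem_map] at hz
    obtain ⟨i, _, rfl⟩ := hz
    exact hyb i⟩
  rw [e1, e2]

theorem sub_none (hα : Fintype.card α = 22) (hB : IsSteinerSystem 3 6 B) (w : Vt B) :
    (pointBlockGraph B).Adj none w ↔ (sub B none w).ncard = 22 := by
  rcases w with _ | a | b
  · have : sub B none none = {none} := by
      ext z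
      constructor
      · rintro ⟨g, _, h, rfl⟩; exact h
      · intro hz
        rw [Set.mem_singleton_iff] at hz; subst hz
        exact ⟨1, (hsN B).one_mem, rfl, rfl⟩
    rw [this, Set.ncard_singleton]
    simp [adj_nn]
  · have : sub B none (some (Sum.inl a)) = Set.range (fun a => (some (Sum.inl a) : Vt B)) := by
      ext z
      constructor
      · rintro ⟨g, hg, h, rfl⟩
        have h1 := (hg.1 none (some (Sum.inl a))).2 (adj_np a)
        rw [h] at h1
        rcases hz : g (some (Sum.inl a)) with _ | a' | b'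
        · rw [hz] at h1; exact absurd h1 adj_nn
        · exact ⟨a', rfl⟩
        · rw [hz] at h1; exact absurd h1 (adj_nb b')
      · rintro ⟨a', rfl⟩
        exact trans_pt hα hB a a'
    rw [this]
    constructor
    · intro _
      rw [← Set.image_univ, Set.ncard_image_of_injective _ (fun a b h => by simpa using h), Set.ncard_univ,
        Nat.card_eq_fintype_card, hα]
    · intro _; exact adj_np a
  · have : sub B none (some (Sum.inr b)) = Set.range (fun b => (some (Sum.inr b) : Vt B)) := by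
      ext z
      constructor
      · rintro ⟨g, hg, h, rfl⟩
        rcases hz : g (some (Sum.inr b)) with _ | a' | b'
        · exfalso
          have : g (some (Sum.inr b)) = g none := by rw [hz, h]
          have := g.injective this
          simp at this
        · exfalso
          have h1 := (hg.1 none (some (Sum.inr b))).1 (by rw [h, hz]; exact adj_np a')
          exact adj_nb b h1
        · exact ⟨b', rfl⟩
      · rintro ⟨b', rfl⟩
        exact trans_bl hα hB b b'
    rw [this, ← Set.image_univ, Set.ncard_image_of_injective _ (fun a b h => by simpa using h), Set.ncard_univ,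
      card_blocks hα hB]
    simp [adj_nb]

theorem sub_adj (hα : Fintype.card α = 22) (hB : IsSteinerSystem 3 6 B) (x w : Vt B) :
    (pointBlockGraph B).Adj x w ↔ (sub B x w).ncard = 22 := by
  obtain ⟨⟨h, hh⟩, hx⟩ := (trans_hsN hα hB).exists_smul_eq x (none : Vt B)
  have hx' : h x = none := hx
  rw [← hh.1 x w, hx', sub_none hα hB]
  have : sub B none (h w) = h '' sub B x w := by
    ext z
    constructor
    · rintro ⟨g, hg, h1, rfl⟩
      refine ⟨h⁻¹ (g (h w)), ⟨h⁻¹ * g * h, (hsN B).mul_mem ((hsN B).mul_mem ((hsN B).inv_mem hh) hg) hh, ?_, rfl⟩, ?_⟩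
      · rw [Equiv.Perm.mul_apply, Equiv.Perm.mul_apply, hx', h1, ← hx']; simp
      · simp
    · rintro ⟨_, ⟨g, hg, h1, rfl⟩, rfl⟩
      refine ⟨h * g * h⁻¹, (hsN B).mul_mem ((hsN B).mul_mem hh hg) ((hsN B).inv_mem hh), ?_, ?_⟩
      · rw [← hx', Equiv.Perm.mul_apply, Equiv.Perm.mul_apply]; simp [h1]
      · rw [Equiv.Perm.mul_apply, Equiv.Perm.mul_apply]; simp
  rw [this, Set.ncard_image_of_injective _ h.injective]

end Cfsg.Agent.Lib.HSOut
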