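import Cfsg.Agent.Lib.Golay.LeechHS
import Cfsg.Agent.Lib.Golay.LeechMcLs
import Cfsg.Agent.Lib.GolU.HSAut3

/-!
The group of order 44352000 as a permutation group of 100 vectors.
-/

set_option autoImplicit false

namespace Cfsg.Agent.Lib.HSOut

open Cfsg Finset
open Cfsg.Agent.Lib.Golay Cfsg.Agent.Lib.GolU

/-- the standard group -/
abbrev G0 : Subgroup Co0 := MulAction.stabilizer Co0 (⟨r5 pb, r5_mem pb⟩ : leechLattice) ⊓
    MulAction.stabilizer Co0 (⟨v0, v0_mem⟩ : leechLattice)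

theorem hs_std : Nonempty (Spor.HS ≃* G0) := by
  have e1 : (MulAction.stabilizer Co0 (Spor.leechV) ⊓ MulAction.stabilizer Co0 Spor.leechU' : Subgroup Co0) ≃* Spor.HS :=
    (subgroupOfEquivInf Co0 (MulAction.stabilizer _ Spor.leechV ⊓ MulAction.stabilizer _ Spor.leechU')).trans
      (MulEquiv.subgroupCongr (by
        rw [Spor.HS, Spor.Co3, inf_assoc]))
  obtain ⟨g, g1, g2⟩ := Eqv.two (v := Spor.leechU') (w := Spor.leechV) (v' := ⟨v0, v0_mem⟩) (w' := ⟨r5 pb, r5_mem pb⟩)
    (TH Spor.leechU'.2 Spor.leechV.2 (by decide +kernel) (by decide +kernel) (by decide +kernel))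
  obtain ⟨e⟩ := inf_equiv g2 g1
  exact ⟨e1.symm.trans e⟩

theorem g0_v0 (g : G0) : app (g : Co0) v0 = v0 := smul_eq_iff_app.1 g.2.2
theorem g0_r5 (g : G0) : app (g : Co0) (r5 pb) = r5 pb := smul_eq_iff_app.1 g.2.1

/-- the 100 vectors -/
def X100 : SubMulAction G0 leechLattice where
  carrier := {y | sqNorm (y : Vec) = 32 ∧ dotInt v0 y = 0 ∧ dotInt (r5 pb) y = 24}
  smul_mem' := by
    rintro g y ⟨h1, h2, h3⟩
    have e : ((g • y : leechLattice) : Vec) = app (g : Co0) y := (app_coe g y).symm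
    refine ⟨?_, ?_, ?_⟩
    · rw [e, app_norm g y.2, h1]
    · rw [e]
      have := app_dot g v0_mem y.2
      rw [g0_v0, h2] at this; exact this
    · rw [e]
      have := app_dot g (r5_mem pb) y.2
      rw [g0_r5, h3] at this; exact this

theorem coe_smul (g : G0) (y : X100) : (((g • y : X100) : leechLattice) : Vec) = app (g : Co0) ((y : leechLattice) : Vec) :=
  (app_coe g y).symm

theorem card_X100 : Nat.card X100 = 100 := by
  show {y : leechLattice | sqNorm (y : Vec) = 32 ∧ dotInt v0 y = 0 ∧ dotInt (r5 pb) y = 24}.ncard = 100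
  rw [ncard_sub _ (fun y => sqNorm y = 32 ∧ dotInt v0 y = 0 ∧ dotInt (r5 pb) y = 24) (fun x => Iff.rfl), c_100]

instance finX : Finite X100 := Nat.finite_of_card_ne_zero (by rw [card_X100]; norm_num)

/-- the graph -/
def gr : SimpleGraph X100 where
  Adj y z := dotInt ((y : leechLattice) : Vec) ((z : leechLattice) : Vec) = 8
  symm := ⟨fun y z h => by rw [dotInt_comm]; exact h⟩
  loopless := ⟨fun y h => by
    have h1 := y.2.1
    rw [dotInt_self, h1] at h
    norm_num at h⟩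

theorem gr_smul (g : G0) (y z : X100) : gr.Adj (g • y) (g • z) ↔ gr.Adj y z := by
  show dotInt _ _ = 8 ↔ dotInt _ _ = 8
  rw [coe_smul, coe_smul, app_dot _ y.1.2 z.1.2]

/-- the base vector -/
def xx : X100 := ⟨⟨x0, x0_mem⟩, norm_x0, dot_v0_x0, by decide +kernel⟩

theorem exists_base (y : X100) : ∃ g : G0, g • y = xx := by
  obtain ⟨g, hg⟩ := TH3 v0_mem y.1.2 (r5_mem pb) norm_v0 y.2.1 (norm_r5 pb) y.2.2.1 (by decide +kernel)
    (by rw [dotInt_comm]; exact y.2.2.2)
  simp only [List.map_cons, List.map_nil, List.cons.injEq, and_true] at hg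
  obtain ⟨g1, g2, g3⟩ := hg
  refine ⟨⟨g, smul_eq_iff_app.2 g3, smul_eq_iff_app.2 g1⟩, ?_⟩
  apply Subtype.ext
  apply Subtype.ext
  rw [coe_smul]
  exact g2

theorem r8_dot {O : Finset GolayPt} (hO : O.card = 8) (j : GolayPt) : dotInt (rO j) (r8 O) = if j ∈ O then 8 else 16 := by
  have : ∑ p, r8 O p = 16 := by unfold r8; rw [sum_ind, hO]; norm_num
  rw [dot_rO, this]
  unfold r8
  split_ifs <;> norm_num

theorem rO_dot {i j : GolayPt} (h : i ≠ j) : dotInt (rO i) (rO j) = 16 := by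
  have h1 : ∀ q, rO j q = 1 + (if q = j then -4 else 0) := by
    intro q; unfold rO; split_ifs <;> norm_num
  have : ∑ p, rO j p = 20 := by
    rw [sum_congr rfl (fun p _ => h1 p), sum_add_distrib, sum_const, card_univ, card_golayPt]
    simp
  rw [dot_rO, this]
  unfold rO
  rw [if_neg h]; norm_num

theorem cases100 (y : X100) : y = xx ∨ (∃ O, O ∈ octads ∧ pa ∈ O ∧ pb ∈ O ∧ (y.1 : Vec) = r8 O) ∨
      ∃ j, j ≠ pa ∧ j ≠ pb ∧ (y.1 : Vec) = rO j := by
  rcases hs_cases y.1.2 y.2.1 y.2.2.1 y.2.2.2 with h | h | h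
  · exact Or.inl (Subtype.ext (Subtype.ext h))
  · exact Or.inr (Or.inl h)
  · exact Or.inr (Or.inr h)

theorem adj_xx (y : X100) : gr.Adj xx y ↔ ∃ j, j ≠ pa ∧ j ≠ pb ∧ (y.1 : Vec) = rO j := by
  constructor
  · intro h
    rcases cases100 y with rfl | ⟨O, hO, ha, hb, h2⟩ | h2
    · exact absurd h (gr.irrefl)
    · exfalso
      have h3 : dotInt x0 (y.1 : Vec) = 8 := h
      rw [h2, x0_r8 ha hb] at h3
      norm_num at h3
    · exact h2
  · rintro ⟨j, ha, hb, h⟩
    show dotInt x0 (y.1 : Vec) = 8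
    rw [h, x0_rO ha hb]

theorem sum_rO' (j : GolayPt) : ∑ p, rO j p = 20 := by
  have h1 : ∀ q, rO j q = 1 + (if q = j then -4 else 0) := by
    intro q; unfold rO; split_ifs <;> norm_num
  rw [sum_congr rfl (fun p _ => h1 p), sum_add_distrib, sum_const, card_univ, card_golayPt]
  simp

theorem rO_props (j : GolayPt) (ha : j ≠ pa) (hb : j ≠ pb) : sqNorm (rO j) = 32 ∧ dotInt v0 (rO j) = 0 ∧
    dotInt (r5 pb) (rO j) = 24 := by
  refine ⟨?_, ?_, ?_⟩
  · rw [← dotInt_self, dot_rO, sum_rO']; unfold rO; rw [if_pos rfl]; norm_num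
  · rw [dot_v0]; unfold rO; rw [if_neg (Ne.symm ha), if_neg (Ne.symm hb)]; norm_num
  · rw [dot_r5, sum_rO']; unfold rO; rw [if_neg (Ne.symm hb)]; norm_num

/-- the vectors -/
def rX (j : GolayPt) (ha : j ≠ pa) (hb : j ≠ pb) : X100 := ⟨⟨rO j, rO_mem j⟩, rO_props j ha hb⟩

theorem card_nb (g : G0) (S T : Set X100) (h : ∀ u, u ∈ S ↔ g • u ∈ T) : S.ncard = T.ncard := by
  have : T = (fun u => g • u) '' S := by
    ext u
    constructor
    · intro hu
      refine ⟨g⁻¹ • u, (h _).2 ?_, smul_inv_smul g u⟩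
      rw [smul_inv_smul]; exact hu
    · rintro ⟨w, hw, rfl⟩
      exact (h w).1 hw
  rw [this, Set.ncard_image_of_injective _ (MulAction.injective g)]

theorem srg_gr [Fintype X100] [DecidableRel gr.Adj] : gr.IsSRGWith 100 22 0 6 := by
  apply srg_of
  · exact card_X100
  · intro v
    obtain ⟨g, hg⟩ := exists_base v
    rw [card_nb g {w | gr.Adj v w} {w | gr.Adj xx w} (fun u => by
      show gr.Adj v u ↔ gr.Adj xx (g • u)
      rw [← hg, gr_smul])]
    have h1 : {w | gr.Adj xx w}.ncard = {y : leechLattice | sqNorm (y : Vec) = 32 ∧ dotInt v0 y = 0 ∧ dotInt (r5 pb) y = 24 ∧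
        dotInt x0 y = 8}.ncard := by
      rw [← Set.ncard_image_of_injective {w | gr.Adj xx w} Subtype.val_injective]
      congr 1
      ext y
      constructor
      · rintro ⟨w, hw, rfl⟩
        exact ⟨w.2.1, w.2.2.1, w.2.2.2, hw⟩
      · rintro ⟨h1, h2, h3, h4⟩
        exact ⟨⟨y, h1, h2, h3⟩, h4, rfl⟩
    rw [h1, ncard_sub _ (fun y => sqNorm y = 32 ∧ dotInt v0 y = 0 ∧ dotInt (r5 pb) y = 24 ∧ dotInt x0 y = 8)
      (fun x => Iff.rfl), c_22]
  · intro v w hvw
    rw [Set.ncard_eq_zero (Set.toFinite _), Set.eq_empty_iff_forall_notMem]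
    rintro u ⟨h1, h2⟩
    obtain ⟨g, hg⟩ := exists_base v
    have h1' : gr.Adj xx (g • u) := by rw [← hg, gr_smul]; exact h1
    have h2' : gr.Adj (g • w) (g • u) := by rw [gr_smul]; exact h2
    have h3' : gr.Adj xx (g • w) := by rw [← hg, gr_smul]; exact hvw
    obtain ⟨i, -, -, hi⟩ := (adj_xx _).1 h3'
    obtain ⟨j, -, -, hj⟩ := (adj_xx _).1 h1'
    have h4 : dotInt (((g • w : X100) : leechLattice) : Vec) (((g • u : X100) : leechLattice) : Vec) = 8 := h2'
    rw [hi, hj] at h4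
    by_cases hij : i = j
    · subst hij
      rw [← hi, dotInt_self, (g • w).2.1] at h4; norm_num at h4
    · rw [rO_dot hij] at h4; norm_num at h4
  · intro v w hne hvw
    obtain ⟨g, hg⟩ := exists_base v
    rw [card_nb g {u | gr.Adj v u ∧ gr.Adj w u} {u | gr.Adj xx u ∧ gr.Adj (g • w) u} (fun u => by
      show gr.Adj v u ∧ gr.Adj w u ↔ gr.Adj xx (g • u) ∧ gr.Adj (g • w) (g • u)
      rw [← hg, gr_smul, gr_smul])]
    rcases cases100 (g • w) with h | ⟨O, hO, ha, hb, h2⟩ | h2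
    · exfalso; apply hne
      apply MulAction.injective g
      show g • v = g • w
      rw [hg, h]
    · have hc := (mem_octads.1 hO).2
      have h6 : ((O.erase pa).erase pb).card = 6 := by
        rw [Finset.card_erase_of_mem (mem_erase.2 ⟨pa_ne_pb.symm, hb⟩), Finset.card_erase_of_mem ha, hc]
      rw [← h6, ← Set.ncard_coe_finset]
      symm
      refine Set.ncard_congr (fun j hj => rX j ?_ ?_) ?_ ?_ ?_
      · exact (mem_erase.1 (mem_erase.1 hj).2).1
      · exact (mem_erase.1 hj).1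
      · intro j hj
        have hj1 := (mem_erase.1 (mem_erase.1 hj).2).1
        have hj2 := (mem_erase.1 hj).1
        have hj3 := (mem_erase.1 (mem_erase.1 hj).2).2
        refine ⟨(adj_xx _).2 ⟨j, hj1, hj2, rfl⟩, ?_⟩
        show dotInt _ (rO j) = 8
        rw [h2, dotInt_comm, r8_dot hc, if_pos hj3]
      · intro i j hi hj hij
        have h3 : rO i = rO j := congrArg (fun z : X100 => ((z : leechLattice) : Vec)) hij
        by_contra hne'
        have h4 := congrFun h3 i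
        unfold rO at h4
        rw [if_pos rfl, if_neg hne'] at h4
        norm_num at h4
      · rintro u ⟨hu1, hu2⟩
        obtain ⟨j, hja, hjb, hj⟩ := (adj_xx _).1 hu1
        have h3 : dotInt (((g • w : X100) : leechLattice) : Vec) ((u : leechLattice) : Vec) = 8 := hu2
        rw [h2, hj, dotInt_comm, r8_dot hc] at h3
        have hjO : j ∈ O := by
          by_contra hn
          rw [if_neg hn] at h3; norm_num at h3
        exact ⟨j, mem_coe.2 (mem_erase.2 ⟨hjb, mem_erase.2 ⟨hja, hjO⟩⟩), Subtype.ext (Subtype.ext hj.symm)⟩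
    · exfalso
      apply hvw
      rw [← gr_smul g, hg]
      exact (adj_xx _).2 h2

end Cfsg.Agent.Lib.HSOut
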